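import Groth.Agent.TorsionDense.Main
import Groth.Agent.SmoothGrp.Transporter
import Mathlib.CategoryTheory.Monoidal.Cartesian.Over
import Mathlib.CategoryTheory.Monoidal.Cartesian.CommGrp_

/-!
The subgroup schemes of torsion points and Weil restriction along a group with dense torsion.
-/

set_option autoImplicit false
set_option backward.isDefEq.respectTransparency false
set_option backward.isDefEq.respectTransparency.types false
set_option linter.style.haveILetI false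

universe u

open CategoryTheory CategoryTheory.Limits MonoidalCategory CartesianMonoidalCategory MonObj GrpObj AlgebraicGeometry
open Groth.Agent.WeilClosedLib

noncomputable section

namespace Groth.Agent.TorsionDense

variable {S : Scheme.{u}} (H : Over S) [GrpObj H]

/-- The inclusion of the points killed by `n`. -/
def tor (n : ℕ) : pullback η[H].left (𝟙 H ^ n : H ⟶ H).left ⟶ H.left :=
  pullback.snd η[H].left (𝟙 H ^ n : H ⟶ H).left

theorem exists_tor_le (m n : ℕ) : ∃ a, a ≫ tor H (m * n) = tor H m := by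
  have hpow : (𝟙 H ^ m : H ⟶ H) ≫ (𝟙 H ^ n) = 𝟙 H ^ (m * n) := by
    rw [MonObj.comp_pow, Category.comp_id, pow_mul]
  have hη : η[H] ≫ (𝟙 H ^ n : H ⟶ H) = η[H] := by
    rw [MonObj.comp_pow, Category.comp_id, show η[H] = 1 by simp [Hom.one_def], one_pow]
  refine ⟨pullback.lift (pullback.fst _ _) (pullback.snd _ _) ?_, pullback.lift_snd _ _ _⟩
  rw [← hpow, Over.comp_left, ← pullback.condition_assoc, ← Over.comp_left, hη]

theorem factorsOn_iff_exists {X Y T : Scheme.{u}} (f : X ⟶ S) (y : Y ⟶ X) (g : T ⟶ S) :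
    FactorsOn f y g ↔ ∃ l : pullback f g ⟶ Y, l ≫ y = pullback.fst f g := by
  refine ⟨fun h => h _ _ pullback.condition, fun ⟨l, hl⟩ W a b w => ?_⟩
  exact ⟨pullback.lift a b w ≫ l, by rw [Category.assoc, hl, pullback.lift_fst]⟩

theorem factorsOn_snd_iff {X Z Y T : Scheme.{u}} (z : Z ⟶ X) (f : X ⟶ S) (y : Y ⟶ X) (g : T ⟶ S) :
    FactorsOn (z ≫ f) (pullback.snd y z) g ↔
      ∃ l : pullback (z ≫ f) g ⟶ Y, l ≫ y = pullback.fst (z ≫ f) g ≫ z := by
  rw [factorsOn_iff_exists]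
  exact ⟨fun ⟨l, hl⟩ => ⟨l ≫ pullback.fst _ _, by rw [Category.assoc, pullback.condition, reassoc_of% hl]⟩,
    fun ⟨l, hl⟩ => ⟨pullback.lift l _ hl, pullback.lift_snd _ _ _⟩⟩

/-- Weil restriction along a directed dense family of finite flat subschemes. -/
theorem exists_closed_of_directed {G X Y : Scheme.{u}} [IsLocallyNoetherian G] (f : X ⟶ G) {J : Type} [Nonempty J]
    {Z : J → Scheme.{u}} (z : ∀ n, Z n ⟶ X) [∀ n, IsFinite (z n ≫ f)] [∀ n, Flat (z n ≫ f)]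
    (y : Y ⟶ X) [IsClosedImmersion y]
    (hlift : ∀ {T : Scheme.{u}} [IsLocallyNoetherian T] (t : T ⟶ G),
      (∀ n, FactorsOn (z n ≫ f) (pullback.snd y (z n)) t) → FactorsOn f y t)
    (hdir : ∀ m n, ∃ k, (∃ a, a ≫ z k = z m) ∧ ∃ a, a ≫ z k = z n) :
    (∃ (T : Scheme.{u}) (t : T ⟶ G), IsClosedImmersion t ∧
      ∀ (S' : Scheme.{u}) (g : S' ⟶ G), (∃ g' : S' ⟶ T, g' ≫ t = g) ↔ FactorsOn f y g) ∧
    (AlgebraicGeometry.IsNoetherian G → ∃ n, ∀ (S' : Scheme.{u}) (g : S' ⟶ G),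
      FactorsOn f y g ↔ FactorsOn (z n ≫ f) (pullback.snd y (z n)) g) := by
  obtain ⟨T, t, ht, hT, hsup⟩ := exists_closed_of_dense f z y hlift
  refine ⟨⟨_, _, inferInstance, hsup⟩, fun _ => ?_⟩
  have hmono : ∀ m n, (∃ a, a ≫ z n = z m) → (t m).ker ≤ (t n).ker := by
    intro m n hmn
    obtain ⟨a, ha⟩ := hmn
    have h : ∀ (S' : Scheme.{u}) (g : S' ⟶ G), FactorsOn (z n ≫ f) (pullback.snd y (z n)) g →
        FactorsOn (z m ≫ f) (pullback.snd y (z m)) g := by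
      intro S' g h W c d w
      obtain ⟨l, hl⟩ := h (c ≫ a) d (by simpa [reassoc_of% ha] using w)
      exact ⟨pullback.lift (l ≫ pullback.fst _ _) c (by
        rw [Category.assoc, pullback.condition, reassoc_of% hl, ha]), pullback.lift_snd _ _ _⟩
    obtain ⟨g', hg'⟩ := (hT m (T n) (t n)).2 (h _ _ ((hT n _ _).1 ⟨𝟙 _, Category.id_comp _⟩))
    rw [← hg']
    exact g'.le_ker_comp (t m)
  obtain ⟨n, hn⟩ := exists_index (fun m k => ∃ a, a ≫ z k = z m) (fun n => (t n).ker) hmono hdir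
  refine ⟨n, fun S' g => ⟨fun h W a b w => ?_, fun h => ?_⟩⟩
  · obtain ⟨l, hl⟩ := h (a ≫ z n) b (by simpa using w)
    exact ⟨pullback.lift l a hl, pullback.lift_snd _ _ _⟩
  · obtain ⟨g', rfl⟩ := (hT n S' g).2 h
    haveI := ht n
    refine (hsup _ _).1 ⟨IsClosedImmersion.lift _ _ ?_, IsClosedImmersion.lift_fac _ _ _⟩
    rw [Scheme.IdealSheafData.ker_subschemeι]
    exact hn.trans (g'.le_ker_comp (t n))

theorem exists_tor_dir (E : Set ℕ) (hEmul : ∀ m ∈ E, ∀ n ∈ E, m * n ∈ E) (m n : E) :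
    ∃ k : E, (∃ a, a ≫ tor H k = tor H m) ∧ ∃ a, a ≫ tor H k = tor H n :=
  ⟨⟨m * n, hEmul m m.2 n n.2⟩, exists_tor_le H m n,
    by show ∃ a, a ≫ tor H ((m : ℕ) * n) = tor H n; rw [mul_comm]; exact exists_tor_le H n m⟩

/-- Weil restriction along a group with dense torsion. -/
theorem exists_closed_of_torsion [IsLocallyNoetherian S] [LocallyOfFiniteType H.hom]
    (E : Set ℕ) (hE : E.Nonempty) (hEmul : ∀ m ∈ E, ∀ n ∈ E, m * n ∈ E)
    (hfin : ∀ n ∈ E, IsFinite (tor H n ≫ H.hom) ∧ Flat (tor H n ≫ H.hom))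
    (hb : FibreDense H.hom (fun n : E => tor H n))
    {Y : Scheme.{u}} (y : Y ⟶ H.left) [IsClosedImmersion y] :
    (∃ (T : Scheme.{u}) (t : T ⟶ S), IsClosedImmersion t ∧
      ∀ (S' : Scheme.{u}) (g : S' ⟶ S), (∃ g' : S' ⟶ T, g' ≫ t = g) ↔ FactorsOn H.hom y g) ∧
    (AlgebraicGeometry.IsNoetherian S → ∃ n ∈ E, ∀ (S' : Scheme.{u}) (g : S' ⟶ S),
      FactorsOn H.hom y g ↔ FactorsOn (tor H n ≫ H.hom) (pullback.snd y (tor H n)) g) := by
  haveI : ∀ n : E, IsFinite (tor H n ≫ H.hom) := fun n => (hfin n n.2).1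
  haveI : ∀ n : E, Flat (tor H n ≫ H.hom) := fun n => (hfin n n.2).2
  haveI : Nonempty E := hE.to_subtype
  obtain ⟨h1, h2⟩ := exists_closed_of_directed H.hom (fun n : E => tor H n) y
    (fun t h => exists_lift_pullback hb y t h) (exists_tor_dir H E hEmul)
  exact ⟨h1, fun h => let ⟨n, hn⟩ := h2 h; ⟨n, n.2, hn⟩⟩

variable (G K : Over S) [GrpObj G] [GrpObj K]

/-- Transporters of a group with dense torsion. -/
theorem exists_transporter [IsLocallyNoetherian S] [LocallyOfFiniteType H.hom] [LocallyOfFiniteType G.hom]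
    (E : Set ℕ) (hE : E.Nonempty) (hEmul : ∀ m ∈ E, ∀ n ∈ E, m * n ∈ E)
    (hfin : ∀ n ∈ E, IsFinite (tor H n ≫ H.hom) ∧ Flat (tor H n ≫ H.hom))
    (hb : FibreDense H.hom (fun n : E => tor H n))
    (u : H ⟶ G) (k : K ⟶ G) [IsClosedImmersion k.left] :
    (∃ (T : Over S) (j : T ⟶ G), IsClosedImmersion j.left ∧
      ∀ (X : Over S) (g : X ⟶ G), (∃ t : X ⟶ T, t ≫ j = g) ↔
        ∀ (X' : Over S) (x : X' ⟶ X) (h : X' ⟶ H), ∃ κ : X' ⟶ K, (x ≫ g) * (h ≫ u) * (x ≫ g)⁻¹ = κ ≫ k) ∧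
    (AlgebraicGeometry.IsNoetherian G.left → ∃ n ∈ E, ∀ (X : Over S) (g : X ⟶ G),
      (∀ (X' : Over S) (x : X' ⟶ X) (h : X' ⟶ H), ∃ κ : X' ⟶ K, (x ≫ g) * (h ≫ u) * (x ≫ g)⁻¹ = κ ≫ k) ↔
        ∀ (X' : Over S) (x : X' ⟶ X) (h : X' ⟶ H), h ^ n = 1 →
          ∃ κ : X' ⟶ K, (x ≫ g) * (h ≫ u) * (x ≫ g)⁻¹ = κ ≫ k) := by
  haveI : IsLocallyNoetherian G.left := LocallyOfFiniteType.isLocallyNoetherian G.hom
  haveI : ∀ n : E, IsFinite (tor H n ≫ H.hom) := fun n => (hfin n n.2).1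
  haveI : ∀ n : E, Flat (tor H n ≫ H.hom) := fun n => (hfin n n.2).2
  haveI : Nonempty E := hE.to_subtype
  obtain ⟨P, jP, hjP, -, hP⟩ := exists_closed_preimage (fst G H * (snd G H ≫ u) * (fst G H)⁻¹) k
  let e : pullback G.hom H.hom ≅ pullback H.hom G.hom := pullbackSymmetry _ _
  let f' := pullback.snd H.hom G.hom
  let jP' : P.left ⟶ pullback G.hom H.hom := jP.left
  haveI : IsClosedImmersion jP' := hjP
  let y := jP' ≫ e.hom
  let z : ∀ n : E, _ ⟶ pullback H.hom G.hom := fun n => bcMap (fun n : E => tor H n) G.hom n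
  have hzf : ∀ n, z n ≫ f' = pullback.snd _ _ := fun n => by simp [z, f', bcMap]
  haveI : ∀ n, IsFinite (z n ≫ f') := fun n => by rw [hzf]; infer_instance
  haveI : ∀ n, Flat (z n ≫ f') := fun n => by rw [hzf]; infer_instance
  have hdir : ∀ m n, ∃ k, (∃ a, a ≫ z k = z m) ∧ ∃ a, a ≫ z k = z n := by
    have lift' : ∀ m k : E, (∃ a, a ≫ tor H k = tor H m) → ∃ a, a ≫ z k = z m := fun m k ⟨a, ha⟩ =>
      ⟨pullback.map _ _ _ _ a (𝟙 _) (𝟙 _) (by simp [reassoc_of% ha]) (by simp),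
        by apply pullback.hom_ext <;> simp [z, bcMap, ha]⟩
    intro m n
    obtain ⟨k, hm, hn⟩ := exists_tor_dir H E hEmul m n
    exact ⟨k, lift' m k hm, lift' n k hn⟩
  obtain ⟨⟨T, t, ht, hT⟩, hn⟩ := exists_closed_of_directed f' z y
    (fun t h => exists_lift_pullback' hb G.hom y t h) hdir
  have hrep : ∀ (S' : Scheme.{u}) (g : S' ⟶ G.left),
      FactorsOn f' y g ↔ FactorsOn (fst G H).left jP.left g := fun S' g => by
    refine (SmoothGrp.factorsOn_iso_iff e f' jP' g).symm.trans ?_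
    rw [show e.hom ≫ f' = pullback.fst G.hom H.hom from pullbackSymmetry_hom_comp_snd _ _]
    rfl
  have hall : ∀ (X : Over S) (g : X ⟶ G), (∃ z' : X ⟶ Over.mk (t ≫ G.hom), z' ≫ Over.homMk t rfl = g) ↔
      ∀ (X' : Over S) (x : X' ⟶ X) (h : X' ⟶ H), ∃ κ : X' ⟶ K, (x ≫ g) * (h ≫ u) * (x ≫ g)⁻¹ = κ ≫ k :=
    fun X g => (SmoothGrp.exists_forall_of_rep jP t (fun S' g => (hT S' g).trans (hrep S' g)) X g).trans
      (forall₃_congr fun X' x h => by rw [hP]; simp [MonObj.comp_mul, GrpObj.comp_inv])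
  refine ⟨⟨Over.mk (t ≫ G.hom), Over.homMk t rfl, ht, hall⟩, fun hG => ?_⟩
  obtain ⟨n, hn⟩ := hn hG
  refine ⟨n, n.2, fun X g => ⟨fun h X' x h' _ => h X' x h', fun h => ?_⟩⟩
  have hF : FactorsOn (z n ≫ f') (pullback.snd y (z n)) g.left := by
    intro W a b w
    have hw : a ≫ pullback.snd (tor H n ≫ H.hom) G.hom = b ≫ g.left := by rw [← hzf n]; exact w
    let X' : Over S := Over.mk (b ≫ X.hom)
    let x : X' ⟶ X := Over.homMk b rfl
    let c := a ≫ pullback.fst (tor H n ≫ H.hom) G.hom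
    have hc : c ≫ tor H n ≫ H.hom = X'.hom := by
      show _ = b ≫ X.hom
      rw [Category.assoc, pullback.condition, reassoc_of% hw, Over.w]
    let h' : X' ⟶ H := Over.homMk (c ≫ tor H n) (by rw [Category.assoc]; exact hc)
    have hh : h' ^ (n : ℕ) = 1 := by
      rw [← show h' ≫ (𝟙 H ^ (n : ℕ)) = h' ^ (n : ℕ) by rw [MonObj.comp_pow, Category.comp_id]]
      apply Over.OverMorphism.ext
      show (c ≫ tor H n) ≫ (𝟙 H ^ (n : ℕ) : H ⟶ H).left = (toUnit X').left ≫ η[H].left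
      rw [Category.assoc, tor, ← pullback.condition, ← Category.assoc]
      congr 1
      show c ≫ pullback.fst η[H].left (𝟙 H ^ (n : ℕ) : H ⟶ H).left = X'.hom
      rw [← hc, tor]
      congr 1
      have h1 : η[H].left ≫ H.hom = 𝟙 S := Over.w η[H]
      have h2 : (𝟙 H ^ (n : ℕ) : H ⟶ H).left ≫ H.hom = H.hom := Over.w _
      calc _ = pullback.fst η[H].left (𝟙 H ^ (n : ℕ) : H ⟶ H).left ≫ η[H].left ≫ H.hom := by
            exact ((congrArg (fun q => pullback.fst η[H].left (𝟙 H ^ (n : ℕ) : H ⟶ H).left ≫ q) h1).trans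
              (Category.comp_id _)).symm
        _ = _ := by rw [pullback.condition_assoc, h2]
    obtain ⟨κ, hκ⟩ := h X' x h' hh
    obtain ⟨l, hl⟩ := (hP X' (lift (x ≫ g) h')).2 ⟨κ, by rw [← hκ]; simp [MonObj.comp_mul, GrpObj.comp_inv]⟩
    refine ⟨pullback.lift l.left a ?_, pullback.lift_snd _ _ _⟩
    have hl' : l.left ≫ jP' = (lift (x ≫ g) h').left := congrArg CommaMorphism.left hl
    rw [reassoc_of% hl']
    apply pullback.hom_ext
    · rw [Category.assoc, pullbackSymmetry_hom_comp_fst, Category.assoc]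
      exact (congrArg CommaMorphism.left (lift_snd (x ≫ g) h')).trans (by simp [z, bcMap, h', c])
    · rw [Category.assoc, pullbackSymmetry_hom_comp_snd, Category.assoc]
      exact (congrArg CommaMorphism.left (lift_fst (x ≫ g) h')).trans (by simp [z, bcMap, x, hw])
  obtain ⟨g', hg'⟩ := (hT _ g.left).2 ((hn _ _).2 hF)
  exact (hall X g).1 ⟨Over.homMk g' (by show g' ≫ t ≫ G.hom = _; rw [reassoc_of% hg', Over.w]),
    Over.OverMorphism.ext hg'⟩

end Groth.Agent.TorsionDense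

end
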