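import Mathlib

/-!
A family of flat algebras which is jointly injective on all fibres is jointly injective.
-/

set_option autoImplicit false
set_option backward.isDefEq.respectTransparency false
set_option linter.style.haveILetI false

universe u

open TensorProduct

noncomputable section

namespace Groth.Agent.TorsionDense

/-- Coefficients of a relation between minimal generators on a flat module lie in `m B`. -/
theorem mem_map_of_sum_eq_zero {R B : Type u} [CommRing R] [IsLocalRing R] [CommRing B] [Algebra R B] [Module.Flat R B]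
    {r : ℕ} (e : Fin r → R)
    (hmin : ∀ j, e j ∉ Ideal.span (e '' {j}ᶜ))
    (b : Fin r → B) (h : ∑ j, e j • b j = 0) (j : Fin r) :
    b j ∈ (IsLocalRing.maximalIdeal R).map (algebraMap R B) := by
  classical
  obtain ⟨k, a, y, hb, ha⟩ := Module.Flat.isTrivialRelation_of_sum_smul_eq_zero (R := R) (M := B) (by simpa [Algebra.smul_def] using h)
  rw [hb j]
  refine Ideal.sum_mem _ fun l _ => ?_
  rw [Algebra.smul_def]
  refine Ideal.mul_mem_right _ _ (Ideal.mem_map_of_mem _ ?_)
  by_contra hu
  rw [IsLocalRing.mem_maximalIdeal, mem_nonunits_iff, not_not] at hu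
  obtain ⟨v, hv⟩ := hu.exists_left_inv
  apply hmin j
  have hz := congrArg (v * ·) (ha l)
  simp only [mul_zero, Finset.mul_sum] at hz
  rw [← Finset.add_sum_erase _ _ (Finset.mem_univ j)] at hz
  have hj : e j = -∑ i ∈ Finset.univ.erase j, v * (e i * a i l) := by
    rw [eq_neg_iff_add_eq_zero, ← hz]
    congr 1
    calc e j = e j * (v * a j l) := by rw [hv, mul_one]
      _ = _ := by ring
  rw [hj]
  refine Ideal.neg_mem_iff _ |>.2 (Ideal.sum_mem _ fun i hi => ?_)
  rw [show v * (e i * a i l) = (v * a i l) * e i by ring]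
  exact Ideal.mul_mem_left _ _ (Ideal.subset_span ⟨i, by simpa using Finset.ne_of_mem_erase hi, rfl⟩)

/-- A finitely generated ideal has irredundant generators. -/
theorem exists_irredundant {R : Type u} [CommRing R] (I : Ideal R) (hI : I.FG) :
    ∃ (r : ℕ) (e : Fin r → R), Ideal.span (Set.range e) = I ∧ ∀ j, e j ∉ Ideal.span (e '' {j}ᶜ) := by
  classical
  obtain ⟨G, hG⟩ := hI
  have hex : ∃ r, ∃ e : Fin r → R, Ideal.span (Set.range e) = I :=
    ⟨G.card, fun i => (G.equivFin.symm i : R), by
      rw [← hG]; congr 1; ext a; simp only [Set.mem_range]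
      exact ⟨fun ⟨i, hi⟩ => hi ▸ (G.equivFin.symm i).2, fun ha => ⟨G.equivFin ⟨a, ha⟩, by simp⟩⟩⟩
  obtain ⟨e, he⟩ := Nat.find_spec hex
  refine ⟨_, e, he, fun j hj => ?_⟩
  obtain ⟨m, hm⟩ : ∃ m, Nat.find hex = m + 1 := Nat.exists_eq_succ_of_ne_zero (by
    intro h0; rw [h0] at j; exact j.elim0)
  have hlt : m < Nat.find hex := by omega
  refine Nat.find_min hex hlt ⟨fun i => e (Fin.cast hm.symm ((Fin.cast hm j).succAbove i)), le_antisymm ?_ ?_⟩
  · exact (Ideal.span_mono (Set.range_subset_iff.2 fun i => Set.mem_range_self _)).trans he.le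
  · refine he.ge.trans ?_
    rw [Ideal.span_le]
    rintro _ ⟨i, rfl⟩
    have hsub : e '' {j}ᶜ ⊆ Set.range fun i => e (Fin.cast hm.symm ((Fin.cast hm j).succAbove i)) := by
      rintro _ ⟨i, hi, rfl⟩
      obtain ⟨i', hi'⟩ := Fin.exists_succAbove_eq (x := Fin.cast hm i) (y := Fin.cast hm j)
        (fun h => hi (Fin.cast_injective hm h))
      exact ⟨i', by simp [hi']⟩
    by_cases hij : i = j
    · exact Ideal.span_mono hsub (hij ▸ hj)
    · exact Ideal.subset_span (hsub ⟨i, hij, rfl⟩)

/-- Over a local ring. -/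
theorem mem_map_pow {R A : Type u} [CommRing R] [IsLocalRing R] [IsNoetherianRing R] [CommRing A] [Algebra R A]
    {ι : Type*} (B : ι → Type u) [∀ i, CommRing (B i)] [∀ i, Algebra R (B i)] [∀ i, Module.Flat R (B i)]
    (φ : ∀ i, A →ₐ[R] B i)
    (hfib : ∀ a : A, (∀ i, φ i a ∈ (IsLocalRing.maximalIdeal R).map (algebraMap R (B i))) →
      a ∈ (IsLocalRing.maximalIdeal R).map (algebraMap R A))
    {x : A} (hx : ∀ i, φ i x = 0) (k : ℕ) : x ∈ (IsLocalRing.maximalIdeal R ^ k).map (algebraMap R A) := by
  induction k with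
  | zero => simp [Ideal.map_top]
  | succ k ih =>
    obtain ⟨r, e, he, hmin⟩ := exists_irredundant (IsLocalRing.maximalIdeal R ^ k) (IsNoetherian.noetherian _)
    rw [← he, Ideal.map_span, ← Set.range_comp, Ideal.mem_span_range_iff_exists_fun] at ih
    obtain ⟨a, ha⟩ := ih
    have hmem : ∀ j, a j ∈ (IsLocalRing.maximalIdeal R).map (algebraMap R A) := fun j =>
      hfib (a j) fun i => by
        refine mem_map_of_sum_eq_zero e hmin (fun j => φ i (a j)) ?_ j
        rw [← hx i, ← ha, map_sum]
        exact Finset.sum_congr rfl fun j _ => by simp [Algebra.smul_def, mul_comm]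
    rw [← ha, pow_succ, Ideal.map_mul]
    refine Ideal.sum_mem _ fun j _ => ?_
    rw [mul_comm (Ideal.map _ _) (Ideal.map _ _)]
    refine Ideal.mul_mem_mul (hmem j) (Ideal.mem_map_of_mem _ ?_)
    rw [← he]
    exact Ideal.subset_span ⟨j, rfl⟩

variable {R A : Type u} [CommRing R] [CommRing A] [Algebra R A] {ι : Type*} (B : ι → Type u)
  [∀ i, CommRing (B i)] [∀ i, Algebra R (B i)] (φ : ∀ i, A →ₐ[R] B i)

/-- Joint injectivity of a family after base change to a ring. -/
def InjOn (C : Type u) [CommRing C] [Algebra R C] : Prop :=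
  ∀ z : C ⊗[R] A, (∀ i, Algebra.TensorProduct.map (AlgHom.id C C) (φ i) z = 0) → z = 0

/-- Jointly injective over a residue field stays so over a field extension. -/
theorem injOn_of_tower {K L : Type u} [Field K] [Field L] [Algebra R K] [Algebra R L] [Algebra K L]
    [IsScalarTower R K L] (h : InjOn B φ K) : InjOn B φ L := by
  intro z hz
  let θA := Algebra.TensorProduct.cancelBaseChange R K L L A
  obtain ⟨w, rfl⟩ := θA.surjective z
  let b := Module.Free.chooseBasis K L
  suffices hw : w = 0 by rw [hw, map_zero]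
  apply (TensorProduct.equivFinsuppOfBasisLeft b).injective
  rw [map_zero]
  refine Finsupp.ext fun j => h _ fun i => ?_
  let θB := Algebra.TensorProduct.cancelBaseChange R K L L (B i)
  let ψ : K ⊗[R] A →ₗ[K] K ⊗[R] B i := (Algebra.TensorProduct.map (AlgHom.id K K) (φ i)).toLinearMap
  have key : ∀ v : L ⊗[K] (K ⊗[R] A),
      Algebra.TensorProduct.map (AlgHom.id L L) (φ i) (θA v) = θB (ψ.lTensor L v) := by
    intro v
    induction v using TensorProduct.induction_on with
    | zero => simp
    | add a b ha hb => simp only [map_add, ha, hb]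
    | tmul l u =>
      induction u using TensorProduct.induction_on with
      | zero => simp
      | add a b ha hb => simp only [TensorProduct.tmul_add, map_add, ha, hb]
      | tmul k a => simp [θA, θB, ψ]
  have h0 : ψ.lTensor L w = 0 := θB.injective (by rw [← key, hz i, map_zero])
  have key2 : ∀ v : L ⊗[K] (K ⊗[R] A), TensorProduct.equivFinsuppOfBasisLeft b (ψ.lTensor L v) j =
      ψ (TensorProduct.equivFinsuppOfBasisLeft b v j) := by
    intro v
    induction v using TensorProduct.induction_on with
    | zero => simp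
    | add a b ha hb => simp only [map_add, Finsupp.add_apply, ha, hb]
    | tmul l u => simp [TensorProduct.equivFinsuppOfBasisLeft_apply_tmul_apply]
  show ψ _ = 0
  rw [← key2, h0, map_zero, Finsupp.zero_apply]

/-- The main statement. -/
theorem injOn_of_noetherian [Algebra.FiniteType R A] [∀ i, Module.Flat R (B i)]
    (hfib : ∀ (p : Ideal R) [p.IsPrime], InjOn B φ p.ResidueField)
    (R' : Type u) [CommRing R'] [IsNoetherianRing R'] [Algebra R R'] : InjOn B φ R' := by
  intro x hx
  haveI : IsNoetherianRing (R' ⊗[R] A) := Algebra.FiniteType.isNoetherianRing R' (R' ⊗[R] A)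
  refine eq_zero_of_localization x fun q hq => ?_
  let p' := q.under R'
  let Rp := Localization.AtPrime p'
  let A' := Rp ⊗[R] A
  let ψ : ∀ i, A' →ₐ[Rp] Rp ⊗[R] B i := fun i => Algebra.TensorProduct.map (AlgHom.id Rp Rp) (φ i)
  let c : R' ⊗[R] A →ₐ[R] A' := Algebra.TensorProduct.map (IsScalarTower.toAlgHom R R' Rp) (AlgHom.id R A)
  have hc : ∀ i, ψ i (c x) = 0 := fun i => by
    have key : ∀ v, ψ i (c v) = Algebra.TensorProduct.map (IsScalarTower.toAlgHom R R' Rp) (AlgHom.id R (B i))
        (Algebra.TensorProduct.map (AlgHom.id R' R') (φ i) v) := by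
      intro v
      induction v using TensorProduct.induction_on with
      | zero => simp
      | add a b ha hb => simp only [map_add, ha, hb]
      | tmul r a => rfl
    rw [key, hx i, map_zero]
  let κ := p'.ResidueField
  haveI : (p'.under R).IsPrime := Ideal.IsPrime.under R p'
  letI : Algebra (p'.under R).ResidueField κ :=
    (Ideal.ResidueField.map (p'.under R) p' (algebraMap R R') rfl).toAlgebra
  haveI : IsScalarTower R (p'.under R).ResidueField κ := IsScalarTower.of_algebraMap_eq fun r => by
    rw [RingHom.algebraMap_toAlgebra]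
    simp [κ, IsScalarTower.algebraMap_apply R R' κ]
  have hκ : InjOn B φ κ := injOn_of_tower B φ (hfib (p'.under R))
  have hres : Function.Surjective (algebraMap Rp κ) := IsLocalRing.residue_surjective
  have hker : RingHom.ker (algebraMap Rp κ) = IsLocalRing.maximalIdeal Rp := IsLocalRing.ker_residue
  have hfib' : ∀ a : A', (∀ i, ψ i a ∈ (IsLocalRing.maximalIdeal Rp).map (algebraMap Rp (Rp ⊗[R] B i))) →
      a ∈ (IsLocalRing.maximalIdeal Rp).map (algebraMap Rp A') := by
    intro a ha
    let π : ∀ (D : Type u) [CommRing D] [Algebra R D], Rp ⊗[R] D →ₐ[R] κ ⊗[R] D := fun D _ _ =>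
      Algebra.TensorProduct.map (IsScalarTower.toAlgHom R Rp κ) (AlgHom.id R D)
    have hπ : ∀ (D : Type u) [CommRing D] [Algebra R D] (z : Rp ⊗[R] D),
        π D z = 0 ↔ z ∈ (IsLocalRing.maximalIdeal Rp).map (algebraMap Rp (Rp ⊗[R] D)) := by
      intro D _ _ z
      have hs : Function.Surjective (IsScalarTower.toAlgHom R Rp κ) := hres
      have := Algebra.TensorProduct.rTensor_ker (R := R) (S := R) (C := D) (IsScalarTower.toAlgHom R Rp κ) hs
      rw [show π D z = 0 ↔ z ∈ RingHom.ker (π D) from Iff.rfl, this]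
      rw [show RingHom.ker (IsScalarTower.toAlgHom R Rp κ) = IsLocalRing.maximalIdeal Rp from hker]
      rfl
    rw [← hπ]
    refine hκ _ fun i => ?_
    have key : ∀ v, Algebra.TensorProduct.map (AlgHom.id κ κ) (φ i) (π A v) = π (B i) (ψ i v) := by
      intro v
      induction v using TensorProduct.induction_on with
      | zero => simp
      | add a b ha hb => simp only [map_add, ha, hb]
      | tmul r a => rfl
    rw [key, hπ]
    exact ha i
  have hpow := mem_map_pow (fun i => Rp ⊗[R] B i) ψ hfib' hc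
  -- transport to the local ring at `q`
  let Aq := Localization.AtPrime q
  haveI : q.LiesOver p' := ⟨rfl⟩
  letI : Algebra Rp Aq := Localization.AtPrime.algebraOfLiesOver p' q
  haveI : IsLocalHom (algebraMap Rp Aq) := Localization.isLocalHom_localRingHom p' q _ Ideal.LiesOver.over
  haveI : IsScalarTower R Rp Aq := IsScalarTower.of_algebraMap_eq fun r => by
    rw [IsScalarTower.algebraMap_apply R R' Rp, ← IsScalarTower.algebraMap_apply R' Rp Aq,
      ← IsScalarTower.algebraMap_apply R R' Aq]
  let d : A' →ₐ[Rp] Aq := Algebra.TensorProduct.lift (Algebra.ofId Rp Aq)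
    (((IsScalarTower.toAlgHom R (R' ⊗[R] A) Aq)).comp Algebra.TensorProduct.includeRight) fun _ _ => Commute.all _ _
  have hd : ∀ v, d (c v) = algebraMap (R' ⊗[R] A) Aq v := by
    intro v
    induction v using TensorProduct.induction_on with
    | zero => simp
    | add a b ha hb => simp only [map_add, ha, hb]
    | tmul r a =>
      rw [show c (r ⊗ₜ[R] a) = algebraMap R' Rp r ⊗ₜ[R] a from rfl,
        show r ⊗ₜ[R] a = algebraMap R' (R' ⊗[R] A) r * (1 ⊗ₜ a) by simp, map_mul,
        ← IsScalarTower.algebraMap_apply R' (R' ⊗[R] A) Aq]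
      erw [Algebra.TensorProduct.lift_tmul]
      rw [Algebra.ofId_apply, ← IsScalarTower.algebraMap_apply R' Rp Aq]
      rfl
  have hall : ∀ k, algebraMap (R' ⊗[R] A) Aq x ∈ IsLocalRing.maximalIdeal Aq ^ k := fun k => by
    rw [← hd]
    have h1 := Ideal.mem_map_of_mem d (hpow k)
    rw [Ideal.map_pow, Ideal.map_pow] at h1
    refine Ideal.pow_right_mono ?_ k h1
    rw [Ideal.map_le_iff_le_comap, Ideal.map_le_iff_le_comap]
    intro m hm
    simp only [Ideal.mem_comap]
    rw [AlgHom.commutes]
    exact map_nonunit _ m hm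
  have hbot : (⨅ k, IsLocalRing.maximalIdeal Aq ^ k) = (⊥ : Ideal Aq) :=
    Ideal.iInf_pow_eq_bot_of_isLocalRing _ (IsLocalRing.maximalIdeal.isMaximal Aq).ne_top
  have : algebraMap (R' ⊗[R] A) Aq x ∈ (⨅ k, IsLocalRing.maximalIdeal Aq ^ k) := Submodule.mem_iInf _ |>.2 hall
  rwa [hbot] at this

end Groth.Agent.TorsionDense

end
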