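import Groth.Agent.TorsionDense.Alg
import Groth.Agent.SmoothGrp.Chart

/-!
Joint injectivity on affine charts from vanishing of sections on a fibre.
-/

set_option autoImplicit false
set_option backward.isDefEq.respectTransparency false
set_option backward.isDefEq.respectTransparency.types false
set_option linter.style.haveILetI false

universe u

open CategoryTheory CategoryTheory.Limits AlgebraicGeometry TensorProduct

noncomputable section

namespace Groth.Agent.TorsionDense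

variable {S X : Scheme.{u}} (f : X ⟶ S) {ι : Type} {Z : ι → Scheme.{u}} (z : ∀ n, Z n ⟶ X)
  {R A : Type u} [CommRing R] [CommRing A] [Algebra R A]
  (h : Spec (CommRingCat.of R) ⟶ S) (v : Spec (CommRingCat.of A) ⟶ X)
  (hv : v ≫ f = Spec.map (CommRingCat.ofHom (algebraMap R A)) ≫ h)

/-- A chart of the base change commutes with maps of charts. -/
theorem chartMap_comp {Y : Scheme.{u}} (y : Y ⟶ X) {B : Type u} [CommRing B] [Algebra R B]
    (w : Spec (CommRingCat.of B) ⟶ Y) (φ : A →ₐ[R] B) (hw : w ≫ y = Spec.map (CommRingCat.ofHom φ.toRingHom) ≫ v)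
    (hw' : w ≫ y ≫ f = Spec.map (CommRingCat.ofHom (algebraMap R B)) ≫ h)
    (C : Type u) [CommRing C] [Algebra R C] (F : pullback (y ≫ f) (Spec.map (CommRingCat.ofHom (algebraMap R C)) ≫ h) ⟶
      pullback f (Spec.map (CommRingCat.ofHom (algebraMap R C)) ≫ h))
    (hF₁ : F ≫ pullback.fst _ _ = pullback.fst _ _ ≫ y) (hF₂ : F ≫ pullback.snd _ _ = pullback.snd _ _) :
    SmoothWeil.chartMap (y ≫ f) h w hw' C ≫ F =
      Spec.map (CommRingCat.ofHom (Algebra.TensorProduct.map (AlgHom.id C C) φ).toRingHom) ≫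
        SmoothWeil.chartMap f h v hv C := by
  apply pullback.hom_ext
  · rw [Category.assoc, hF₁, ← Category.assoc, SmoothWeil.chartMap_fst, Category.assoc, hw, Category.assoc,
      SmoothWeil.chartMap_fst, ← Spec.map_comp_assoc, ← Spec.map_comp_assoc]
    congr 2
  · rw [Category.assoc, hF₂, SmoothWeil.chartMap_snd, Category.assoc, SmoothWeil.chartMap_snd, ← Spec.map_comp]
    congr 1
    ext c
    simp

/-- A section killed by all charts of a covering vanishes. -/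
theorem eq_zero_of_charts {P : Scheme.{u}} {W : P.Opens} (t : Γ(P, W))
    (H : ∀ q ∈ W, ∃ (Q : Scheme.{u}) (c : Q ⟶ P) (_ : IsOpenImmersion c) (hle : ⊤ ≤ c ⁻¹ᵁ W),
      q ∈ Set.range c ∧ c.appLE W ⊤ hle t = 0) : t = 0 := by
  choose Q c hc hle hq h0 using H
  haveI : ∀ q : W, IsOpenImmersion (c q.1 q.2) := fun q => hc q.1 q.2
  have hsub : ∀ q : W, c q.1 q.2 ''ᵁ ⊤ ≤ W := fun q => ((c q.1 q.2).image_mono (hle q.1 q.2)).trans ((c q.1 q.2).image_preimage_le W)
  refine P.sheaf.eq_of_locally_eq' (fun q : W => c q.1 q.2 ''ᵁ ⊤) W (fun q => homOfLE (hsub q))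
    (fun q hqW => ?_) t 0 fun q => ?_
  · obtain ⟨p, hp⟩ := hq q hqW
    exact TopologicalSpace.Opens.mem_iSup.2 ⟨⟨q, hqW⟩, p, trivial, hp⟩
  · apply ((c q.1 q.2).appIso ⊤).commRingCatIsoToRingEquiv.injective
    show ((c q.1 q.2).appIso ⊤).hom (P.presheaf.map (homOfLE (hsub q)).op t) =
      ((c q.1 q.2).appIso ⊤).hom (P.presheaf.map (homOfLE (hsub q)).op 0)
    rw [map_zero, map_zero, ← CommRingCat.comp_apply, Scheme.Hom.appIso_hom', Scheme.Hom.map_appLE]
    exact h0 q.1 q.2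

include hv in
/-- If sections on the base change to `C` are detected by a family, then so are elements of `C ⊗ A`. -/
theorem injOn_of_sections [IsOpenImmersion h] [IsOpenImmersion v] {κ : ι → Type u} (B : ∀ n, κ n → Type u)
    [∀ n i, CommRing (B n i)] [∀ n i, Algebra R (B n i)] (φ : ∀ n i, A →ₐ[R] B n i)
    (w : ∀ n i, Spec (CommRingCat.of (B n i)) ⟶ Z n) [∀ n i, IsOpenImmersion (w n i)]
    (hw : ∀ n i, w n i ≫ z n = Spec.map (CommRingCat.ofHom (φ n i).toRingHom) ≫ v)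
    (hcov : ∀ n (x : Z n), z n x ∈ Set.range v → ∃ i, x ∈ Set.range (w n i))
    (C : Type u) [CommRing C] [Algebra R C] (g : Spec (CommRingCat.of C) ⟶ S)
    (hg : Spec.map (CommRingCat.ofHom (algebraMap R C)) ≫ h = g)
    (F : ∀ n, pullback (z n ≫ f) g ⟶ pullback f g)
    (hF₁ : ∀ n, F n ≫ pullback.fst _ _ = pullback.fst _ _ ≫ z n)
    (hF₂ : ∀ n, F n ≫ pullback.snd _ _ = pullback.snd _ _)
    (hsec : ∀ (O : (pullback f g).Opens) (t : Γ(pullback f g, O)), (∀ n, (F n).app O t = 0) → t = 0) :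
    InjOn (fun p : (n : ι) × κ n => B p.1 p.2) (fun p => φ p.1 p.2) C := by
  subst hg
  intro x hx
  let cm := SmoothWeil.chartMap f h v hv C
  haveI : IsOpenImmersion cm := SmoothWeil.isOpenImmersion_chartMap f h v hv C
  let t := (cm.appIso ⊤).inv ((Scheme.ΓSpecIso (CommRingCat.of (C ⊗[R] A))).inv x)
  suffices ht : t = 0 by
    have h1 := congrArg (fun s => (Scheme.ΓSpecIso (CommRingCat.of (C ⊗[R] A))).hom ((cm.appIso ⊤).hom s)) ht
    simpa [t] using h1
  refine hsec _ t fun n => ?_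
  refine eq_zero_of_charts _ fun q hq => ?_
  obtain ⟨p, -, hp⟩ := hq
  have hx0 : z n ((pullback.fst (z n ≫ f) (Spec.map (CommRingCat.ofHom (algebraMap R C)) ≫ h) :) q) ∈ Set.range v := by
    refine ⟨Spec.map (CommRingCat.ofHom (Algebra.TensorProduct.includeRight : A →ₐ[R] C ⊗[R] A).toRingHom) p, ?_⟩
    rw [← Scheme.Hom.comp_apply, ← SmoothWeil.chartMap_fst f h v hv C, Scheme.Hom.comp_apply,
      ← Scheme.Hom.comp_apply (pullback.fst _ _) (z n), ← hF₁ n, Scheme.Hom.comp_apply]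
    exact congrArg _ hp
  obtain ⟨i, y, hy⟩ := hcov n _ hx0
  have hw' : w n i ≫ z n ≫ f = Spec.map (CommRingCat.ofHom (algebraMap R (B n i))) ≫ h := by
    rw [reassoc_of% (hw n i), hv, ← Spec.map_comp_assoc]
    congr 2
    ext r
    exact (φ n i).commutes r
  let cz := SmoothWeil.chartMap (z n ≫ f) h (w n i) hw' C
  haveI : IsOpenImmersion cz := SmoothWeil.isOpenImmersion_chartMap (z n ≫ f) h (w n i) hw' C
  have hcomp : cz ≫ F n = Spec.map (CommRingCat.ofHom (Algebra.TensorProduct.map (AlgHom.id C C) (φ n i)).toRingHom) ≫ cm :=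
    chartMap_comp f h v hv (z n) (w n i) (φ n i) (hw n i) hw' C (F n) (hF₁ n) (hF₂ n)
  have hle : ⊤ ≤ cz ⁻¹ᵁ (F n) ⁻¹ᵁ (cm ''ᵁ ⊤) := fun p' _ => by
    show (cz ≫ F n) p' ∈ cm ''ᵁ ⊤
    rw [hcomp]
    exact ⟨_, trivial, rfl⟩
  obtain ⟨p', -, hp'⟩ := Scheme.exists_preimage_of_isPullback
    (SmoothGrp.isPullback_chartMap (z n ≫ f) h (w n i) hw' C) y q hy
  refine ⟨_, cz, inferInstance, hle, ⟨p', hp'⟩, ?_⟩
  rw [← CommRingCat.comp_apply, Scheme.Hom.app_eq_appLE, Scheme.Hom.appLE_comp_appLE]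
  have key : ∀ (e : ⊤ ≤ (cz ≫ F n) ⁻¹ᵁ (cm ''ᵁ ⊤)), (cz ≫ F n).appLE (cm ''ᵁ ⊤) ⊤ e t = 0 := by
    rw [hcomp]
    intro e
    rw [← Scheme.Hom.appLE_comp_appLE _ cm (cm ''ᵁ ⊤) ⊤ ⊤ (cm.preimage_image_eq ⊤).ge le_top,
      CommRingCat.comp_apply,
      show cm.appLE (cm ''ᵁ ⊤) ⊤ _ t = (Scheme.ΓSpecIso (CommRingCat.of (C ⊗[R] A))).inv x from by
        rw [← CommRingCat.comp_apply, Scheme.Hom.appIso_inv_appLE]; simp]
    rw [Scheme.Hom.appLE, ← CommRingCat.comp_apply]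
    simp only [homOfLE_refl, op_id]
    erw [← Scheme.ΓSpecIso_inv_naturality]
    rw [CommRingCat.comp_apply]
    show (Scheme.ΓSpecIso (CommRingCat.of (C ⊗[R] B n i))).inv ((Algebra.TensorProduct.map (AlgHom.id C C) (φ n i)) x) = 0
    rw [hx ⟨n, i⟩, map_zero]
  exact key _

end Groth.Agent.TorsionDense

end
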