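import Groth.Agent.TorsionDense.Fibre
import Groth.Agent.WeilClosedLib.EssFree
import Groth.Agent.WeilClosedLib.Finite
import Groth.Prelude.Def_MoreMor

/-!
Closed subschemes containing a fibrewise schematically dense family of finite flat subschemes.
-/

set_option autoImplicit false
set_option backward.isDefEq.respectTransparency false
set_option backward.isDefEq.respectTransparency.types false
set_option linter.style.haveILetI false

universe u

open CategoryTheory CategoryTheory.Limits AlgebraicGeometry TensorProduct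
open Groth.Agent.WeilClosedLib

noncomputable section

namespace Groth.Agent.TorsionDense

/-- Joint injectivity passes to a subfield. -/
theorem injOn_of_algHom {R A : Type u} [CommRing R] [CommRing A] [Algebra R A] {ι : Type*} (B : ι → Type u)
    [∀ i, CommRing (B i)] [∀ i, Algebra R (B i)] (φ : ∀ i, A →ₐ[R] B i) {K L : Type u} [Field K] [Field L]
    [Algebra R K] [Algebra R L] (j : K →ₐ[R] L) (h : InjOn B φ L) : InjOn B φ K := by
  intro z hz
  letI : Algebra K L := j.toRingHom.toAlgebra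
  haveI : IsScalarTower R K L := IsScalarTower.of_algebraMap_eq fun r => (j.commutes r).symm
  obtain ⟨r, hr⟩ := (Algebra.linearMap K L).exists_leftInverse_of_injective
    (LinearMap.ker_eq_bot.2 j.toRingHom.injective)
  have hinv : (r.restrictScalars R) ∘ₗ j.toLinearMap = LinearMap.id :=
    LinearMap.ext fun k => LinearMap.congr_fun hr k
  have key : ∀ (D : Type u) [CommRing D] [Algebra R D] (v : K ⊗[R] D),
      (r.restrictScalars R).rTensor D (Algebra.TensorProduct.map j (AlgHom.id R D) v) = v := by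
    intro D _ _ v
    show (r.restrictScalars R).rTensor D (j.toLinearMap.rTensor D v) = v
    rw [← LinearMap.rTensor_comp_apply, hinv, LinearMap.rTensor_id_apply]
  rw [← key A z, h (Algebra.TensorProduct.map j (AlgHom.id R A) z) fun i => ?_, map_zero]
  have key2 : ∀ v, Algebra.TensorProduct.map (AlgHom.id L L) (φ i) (Algebra.TensorProduct.map j (AlgHom.id R A) v) =
      Algebra.TensorProduct.map j (AlgHom.id R (B i)) (Algebra.TensorProduct.map (AlgHom.id K K) (φ i) v) := by
    intro v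
    induction v using TensorProduct.induction_on with
    | zero => simp
    | add a b ha hb => simp only [map_add, ha, hb]
    | tmul k a => rfl
  rw [key2, hz i, map_zero]

variable {S X Y : Scheme.{u}} (f : X ⟶ S) [LocallyOfFiniteType f] {ι : Type} {Z : ι → Scheme.{u}}
  (z : ∀ n, Z n ⟶ X) (y : Y ⟶ X) [IsClosedImmersion y]

/-- The family is schematically dense on every fibre. -/
def FibreDense : Prop :=
  ∀ (s : S) (V : (f.fiber s).Opens) (t : Γ(f.fiber s, V)),
    (∀ n, (MoreMor.fiberMap (z n) f s).app V t = 0) → t = 0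

variable {f z}

variable (z) in
/-- The base change of a member of the family. -/
def bcMap {G : Scheme.{u}} (t₀ : G ⟶ S) (n : ι) : pullback (z n ≫ f) t₀ ⟶ pullback f t₀ :=
  pullback.map _ _ _ _ (z n) (𝟙 _) (𝟙 _) (by simp) (by simp)

/-- Over a locally noetherian scheme mapping to a base change. -/
theorem exists_lift_pullback' [∀ n, Flat (z n ≫ f)] (hz : FibreDense f z) {G Y : Scheme.{u}} (t₀ : G ⟶ S)
    (y : Y ⟶ pullback f t₀) [IsClosedImmersion y] {T : Scheme.{u}} [IsLocallyNoetherian T] (t : T ⟶ G)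
    (H : ∀ n, FactorsOn (bcMap z t₀ n ≫ pullback.snd f t₀) (pullback.snd y (bcMap z t₀ n)) t) :
    FactorsOn (pullback.snd f t₀) y t := by
  let m' : pullback f (t ≫ t₀) ⟶ pullback f t₀ := pullback.map _ _ _ _ (𝟙 _) t (𝟙 _) (by simp) (by simp)
  intro W a b w
  suffices ∃ l, l ≫ y = m' by
    obtain ⟨l, hl⟩ := this
    refine ⟨pullback.lift (a ≫ pullback.fst _ _) b (by
      rw [Category.assoc, pullback.condition, reassoc_of% w]) ≫ l, ?_⟩
    rw [Category.assoc, hl]
    apply pullback.hom_ext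
    · simp [m']
    · simp [m', w]
  refine exists_factor_of_cover _ fun q => ?_
  obtain ⟨U, hU, hxU, -⟩ :=
    exists_isAffineOpen_mem_and_subset (x := f ((pullback.fst f (t ≫ t₀) :) q)) (U := ⊤) trivial
  obtain ⟨V, hV, hxV, hVU⟩ :=
    exists_isAffineOpen_mem_and_subset (x := (pullback.fst f (t ≫ t₀) :) q) (U := f ⁻¹ᵁ U) hxU
  obtain ⟨P, hP, hqP, hPU⟩ := exists_isAffineOpen_mem_and_subset (x := (pullback.snd f (t ≫ t₀) :) q)
    (U := (t ≫ t₀) ⁻¹ᵁ U) (by
      show (t ≫ t₀) ((pullback.snd f (t ≫ t₀) :) q) ∈ U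
      rw [← Scheme.Hom.comp_apply, ← pullback.condition]
      exact hxU)
  let R := Γ(S, U)
  let A := Γ(X, V)
  let C := Γ(T, P)
  letI : Algebra R A := (f.appLE U V hVU).hom.toAlgebra
  letI : Algebra R C := ((t ≫ t₀).appLE U P hPU).hom.toAlgebra
  haveI : Algebra.FiniteType R A := RingHom.finiteType_algebraMap.1
    (HasRingHomProperty.appLE (P := @LocallyOfFiniteType) f ‹_› ⟨U, hU⟩ ⟨V, hV⟩ hVU)
  haveI : IsNoetherianRing C := IsLocallyNoetherian.component_noetherian ⟨P, hP⟩
  have hv : hV.fromSpec ≫ f = Spec.map (CommRingCat.ofHom (algebraMap R A)) ≫ hU.fromSpec :=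
    (IsAffineOpen.SpecMap_appLE_fromSpec f hU hV hVU).symm
  let κ : ι → Type u := fun n => {W : (Z n).affineOpens // W.1 ≤ z n ⁻¹ᵁ V}
  let B : ∀ n, κ n → Type u := fun n i => Γ(Z n, i.1.1)
  have hle : ∀ n (i : κ n), i.1.1 ≤ (z n ≫ f) ⁻¹ᵁ U := fun n i => i.2.trans ((z n).preimage_mono hVU)
  letI : ∀ n i, Algebra R (B n i) := fun n i => ((z n ≫ f).appLE U i.1.1 (hle n i)).hom.toAlgebra
  let φ : ∀ n i, A →ₐ[R] B n i := fun n i => AlgHom.mk ((z n).appLE V i.1.1 i.2).hom fun r => by
    show ((z n).appLE V i.1.1 i.2) (f.appLE U V hVU r) = (z n ≫ f).appLE U i.1.1 _ r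
    rw [← CommRingCat.comp_apply, Scheme.Hom.appLE_comp_appLE]
  let w : ∀ n (i : κ n), Spec (CommRingCat.of (B n i)) ⟶ Z n := fun n i => i.1.2.fromSpec
  have hw : ∀ n i, w n i ≫ z n = Spec.map (CommRingCat.ofHom (φ n i).toRingHom) ≫ hV.fromSpec :=
    fun n i => (IsAffineOpen.SpecMap_appLE_fromSpec (z n) hV i.1.2 i.2).symm
  haveI : ∀ n i, IsOpenImmersion (w n i) := fun n i => inferInstanceAs (IsOpenImmersion i.1.2.fromSpec)
  have hcov : ∀ n (x : Z n), z n x ∈ Set.range hV.fromSpec → ∃ i, x ∈ Set.range (w n i) := by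
    intro n x hx
    rw [hV.range_fromSpec] at hx
    obtain ⟨W, hW, hxW, hWV⟩ := exists_isAffineOpen_mem_and_subset (x := x) (U := z n ⁻¹ᵁ V) hx
    exact ⟨⟨⟨W, hW⟩, hWV⟩, by show x ∈ Set.range hW.fromSpec; rwa [hW.range_fromSpec]⟩
  haveI : ∀ p : (n : ι) × κ n, Module.Flat R (B p.1 p.2) := fun p => RingHom.flat_algebraMap_iff.1
    (HasRingHomProperty.appLE (P := @Flat) (z p.1 ≫ f) inferInstance ⟨U, hU⟩ p.2.1 (hle p.1 p.2))
  have hinj : InjOn (fun p : (n : ι) × κ n => B p.1 p.2) (fun p => φ p.1 p.2) C := by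
    refine injOn_of_noetherian _ _ (fun p _ => ?_) C
    let s : S := hU.fromSpec (⟨p, inferInstance⟩ : PrimeSpectrum R)
    have hrange : Set.range (S.fromSpecResidueField s) ⊆ Set.range hU.fromSpec := by
      rw [Scheme.range_fromSpecResidueField]; exact Set.singleton_subset_iff.2 ⟨_, rfl⟩
    let σ := IsOpenImmersion.lift hU.fromSpec (S.fromSpecResidueField s) hrange
    let ψ := Spec.preimage σ
    letI : Algebra R (S.residueField s) := ψ.hom.toAlgebra
    have hker : RingHom.ker (algebraMap R (S.residueField s)) = p := by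
      have h1 : σ (IsLocalRing.closedPoint (S.residueField s)) = (⟨p, inferInstance⟩ : PrimeSpectrum R) := by
        apply hU.fromSpec.isOpenEmbedding.injective
        rw [← Scheme.Hom.comp_apply, IsOpenImmersion.lift_fac, Scheme.fromSpecResidueField_apply]
      have h2 : (Spec.map ψ (IsLocalRing.closedPoint (S.residueField s))).asIdeal = p := by
        rw [Spec.map_preimage, h1]
      rw [← h2]
      ext r
      show ψ.hom r = 0 ↔ ψ.hom r ∈ IsLocalRing.maximalIdeal (S.residueField s)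
      rw [IsLocalRing.maximalIdeal_eq_bot]
      exact Iff.rfl
    let j₀ : R ⧸ p →+* S.residueField s := Ideal.Quotient.lift p (algebraMap R _) hker.ge
    have hj₀ : Function.Injective j₀ := RingHom.lift_injective_of_ker_le_ideal _ _ hker.le
    let j : p.ResidueField →ₐ[R] S.residueField s := AlgHom.mk (IsFractionRing.lift hj₀) fun r => by
      rw [IsScalarTower.algebraMap_apply R (R ⧸ p) p.ResidueField]
      exact (IsFractionRing.lift_algebraMap hj₀ _).trans (Ideal.Quotient.lift_mk _ _ _)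
    refine injOn_of_algHom _ _ j ?_
    refine injOn_of_sections f z hU.fromSpec hV.fromSpec hv B φ w hw hcov (S.residueField s)
      (S.fromSpecResidueField s) ?_ (fun n => MoreMor.fiberMap (z n) f s) (fun n => ?_) (fun n => ?_) (hz s)
    · show Spec.map ψ ≫ _ = _
      rw [Spec.map_preimage, IsOpenImmersion.lift_fac]
    · exact pullback.lift_fst _ _ _
    · exact pullback.lift_snd _ _ _
  let hC : Spec (CommRingCat.of C) ⟶ T := hP.fromSpec
  have hCt : hC ≫ t ≫ t₀ = Spec.map (CommRingCat.ofHom (algebraMap R C)) ≫ hU.fromSpec :=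
    (IsAffineOpen.SpecMap_appLE_fromSpec (t ≫ t₀) hU hP hPU).symm
  haveI : IsOpenImmersion hC := inferInstanceAs (IsOpenImmersion hP.fromSpec)
  let m : pullback f (Spec.map (CommRingCat.ofHom (algebraMap R C)) ≫ hU.fromSpec) ⟶ pullback f (t ≫ t₀) :=
    pullback.map _ _ _ _ (𝟙 _) hC (𝟙 _) (by simp) (by simp [hCt])
  let cm := SmoothWeil.chartMap f hU.fromSpec hV.fromSpec hv C
  haveI : IsOpenImmersion cm := SmoothWeil.isOpenImmersion_chartMap f hU.fromSpec hV.fromSpec hv C
  have hm : m ≫ pullback.fst f (t ≫ t₀) = pullback.fst f _ := by simp [m]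
  have hm₂ : m ≫ pullback.snd f (t ≫ t₀) = pullback.snd f _ ≫ hC := by simp [m]
  have hqr : q ∈ Set.range (cm ≫ m) := by
    have hq : q ∈ Set.range m := by
      rw [Scheme.Pullback.range_map]
      refine ⟨⟨_, rfl⟩, ?_⟩
      show (pullback.snd f (t ≫ t₀) :) q ∈ Set.range hP.fromSpec
      rw [hP.range_fromSpec]
      exact hqP
    obtain ⟨q', rfl⟩ := hq
    rw [← Scheme.Hom.comp_apply, hm] at hxV
    obtain ⟨x₀, hx₀⟩ := hV.range_fromSpec.superset hxV
    obtain ⟨q'', -, hq''⟩ := Scheme.exists_preimage_of_isPullback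
      (SmoothGrp.isPullback_chartMap f hU.fromSpec hV.fromSpec hv C) x₀ q' hx₀
    exact ⟨q'', by rw [Scheme.Hom.comp_apply, hq'']⟩
  let μ : Spec (CommRingCat.of (C ⊗[R] A)) ⟶ pullback f t₀ := cm ≫ m ≫ m'
  obtain ⟨J, e, he⟩ := IsClosedImmersion.Spec_iff.1 (inferInstance : IsClosedImmersion (pullback.snd y μ))
  have hJ : J = ⊥ := by
    refine le_bot_iff.1 fun x hx => hinj _ fun ⟨n, i⟩ => ?_
    let ir : B n i →ₐ[R] C ⊗[R] B n i := Algebra.TensorProduct.includeRight
    let il : C →+* C ⊗[R] B n i := Algebra.TensorProduct.includeLeftRingHom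
    let Φ := Algebra.TensorProduct.map (AlgHom.id C C) (φ n i)
    have hw' : w n i ≫ z n ≫ f = Spec.map (CommRingCat.ofHom (algebraMap R (B n i))) ≫ hU.fromSpec :=
      (IsAffineOpen.SpecMap_appLE_fromSpec (z n ≫ f) hU i.1.2 (hle n i)).symm
    let aZ : Spec (CommRingCat.of (C ⊗[R] B n i)) ⟶ pullback (z n ≫ f) t₀ :=
      pullback.lift (Spec.map (CommRingCat.ofHom ir.toRingHom) ≫ w n i)
        ((Spec.map (CommRingCat.ofHom il) ≫ hC) ≫ t) (by
          rw [SmoothWeil.chart_w (z n ≫ f) hU.fromSpec (w n i) hw' C, Category.assoc, Category.assoc, hCt])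
    have haZ : aZ ≫ bcMap z t₀ n = Spec.map (CommRingCat.ofHom Φ.toRingHom) ≫ μ := by
      apply pullback.hom_ext
      · simp only [μ, m', bcMap, aZ, pullback.map, Category.assoc, Category.comp_id, pullback.lift_fst,
          pullback.lift_fst_assoc, hm]
        rw [hw, SmoothWeil.chartMap_fst, ← Spec.map_comp_assoc, ← Spec.map_comp_assoc]
        congr 2
      · simp only [μ, m', bcMap, aZ, pullback.map, Category.assoc, Category.comp_id, pullback.lift_snd,
          reassoc_of% hm₂]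
        rw [← Category.assoc cm, SmoothWeil.chartMap_snd, ← Spec.map_comp_assoc]
        congr 3
        ext c
        show c ⊗ₜ[R] (1 : B n i) = Φ (c ⊗ₜ 1)
        simp [Φ]
    obtain ⟨l, hl⟩ := H n aZ (Spec.map (CommRingCat.ofHom il) ≫ hC) (by simp [bcMap, aZ])
    have hl' : (l ≫ pullback.fst y (bcMap z t₀ n)) ≫ y = Spec.map (CommRingCat.ofHom Φ.toRingHom) ≫ μ := by
      rw [Category.assoc, pullback.condition, reassoc_of% hl, haZ]
    exact SmoothWeil.le_ker_of_lift J _ (pullback.lift _ _ hl' ≫ e.hom) (by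
      rw [Category.assoc, ← he, pullback.lift_snd]) hx
  obtain ⟨l, hl⟩ := SmoothWeil.lift_of_le_ker J (RingHom.id (C ⊗[R] A)) (hJ.trans_le bot_le)
  refine ⟨(cm ≫ m).opensRange, hqr, (cm ≫ m).isoOpensRange.inv ≫ l ≫ e.inv ≫ pullback.fst y μ, ?_⟩
  simp only [Category.assoc]
  rw [pullback.condition, he]
  simp only [Category.assoc, Iso.inv_hom_id_assoc]
  have hl₁ : l ≫ Spec.map (CommRingCat.ofHom (Ideal.Quotient.mk J)) = 𝟙 _ :=
    hl.trans (by rw [CommRingCat.ofHom_id, Spec.map_id])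
  rw [reassoc_of% hl₁, Iso.inv_comp_eq, Scheme.Hom.isoOpensRange_hom_ι_assoc, Category.assoc]

/-- Over a locally noetherian scheme. -/
theorem exists_lift_pullback [∀ n, Flat (z n ≫ f)] (hz : FibreDense f z) {Y : Scheme.{u}} (y : Y ⟶ X)
    [IsClosedImmersion y] {T : Scheme.{u}} [IsLocallyNoetherian T] (t : T ⟶ S)
    (H : ∀ n, FactorsOn (z n ≫ f) (pullback.snd y (z n)) t) : FactorsOn f y t := by
  intro W a b w
  obtain ⟨l, hl⟩ := exists_lift_pullback' hz t (pullback.snd y (pullback.fst f t)) (𝟙 T) (fun n W' a' b' w' => by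
      obtain ⟨l', hl'⟩ := H n (a' ≫ pullback.fst _ _) b' (by
        have : a' ≫ pullback.snd (z n ≫ f) t = b' := by simpa [bcMap] using w'
        rw [Category.assoc, pullback.condition, reassoc_of% this])
      have h1 : bcMap z t n ≫ pullback.fst f t = pullback.fst _ _ ≫ z n := by simp [bcMap]
      refine ⟨pullback.lift (pullback.lift (l' ≫ pullback.fst _ _) (a' ≫ bcMap z t n) ?_) a' ?_, pullback.lift_snd _ _ _⟩
      · rw [Category.assoc, pullback.condition, reassoc_of% hl', Category.assoc, h1]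
      · rw [pullback.lift_snd]) (pullback.lift a b w) b (by simp)
  exact ⟨l ≫ pullback.fst _ _, by rw [Category.assoc, pullback.condition, reassoc_of% hl, pullback.lift_fst]⟩

variable (f z)

omit [LocallyOfFiniteType f] in
/-- The closed subscheme of the base over which `Y` contains everything. -/
theorem exists_closed_of_dense [IsLocallyNoetherian S] [∀ n, IsFinite (z n ≫ f)] [∀ n, Flat (z n ≫ f)]
    (hlift : ∀ {T : Scheme.{u}} [IsLocallyNoetherian T] (t : T ⟶ S),
      (∀ n, FactorsOn (z n ≫ f) (pullback.snd y (z n)) t) → FactorsOn f y t) :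
    ∃ (T : ι → Scheme.{u}) (t : ∀ n, T n ⟶ S), (∀ n, IsClosedImmersion (t n)) ∧
      (∀ n (S' : Scheme.{u}) (g : S' ⟶ S), (∃ g' : S' ⟶ T n, g' ≫ t n = g) ↔
        FactorsOn (z n ≫ f) (pullback.snd y (z n)) g) ∧
      ∀ (S' : Scheme.{u}) (g : S' ⟶ S),
        (∃ g' : S' ⟶ (⨆ n, (t n).ker).subscheme, g' ≫ (⨆ n, (t n).ker).subschemeι = g) ↔ FactorsOn f y g := by
  haveI : ∀ n, LocallyOfFinitePresentation (z n ≫ f) := fun n =>
    LocallyOfFinitePresentation.iff_locallyOfFiniteType.2 inferInstance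
  choose T t ht hT _ using fun n =>
    exists_closed_of_essentiallyFree (f := z n ≫ f) (j := pullback.snd y (z n))
      (isEssentiallyFree_of_finite_flat (z n ≫ f))
  refine ⟨T, t, ht, hT, fun S' g => ⟨?_, fun h => ?_⟩⟩
  · rintro ⟨g', rfl⟩
    haveI : IsLocallyNoetherian (⨆ n, (t n).ker).subscheme :=
      LocallyOfFiniteType.isLocallyNoetherian (⨆ n, (t n).ker).subschemeι
    refine (hlift _ fun n => ?_).comp g'
    haveI := ht n
    exact (hT n _ _).1 ⟨IsClosedImmersion.lift (t n) _ (by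
      rw [Scheme.IdealSheafData.ker_subschemeι]; exact le_iSup (fun n => (t n).ker) n), IsClosedImmersion.lift_fac _ _ _⟩
  · refine ⟨IsClosedImmersion.lift (⨆ n, (t n).ker).subschemeι g ?_, IsClosedImmersion.lift_fac _ _ _⟩
    rw [Scheme.IdealSheafData.ker_subschemeι]
    refine iSup_le fun n => ?_
    obtain ⟨g', rfl⟩ := (hT n S' g).2 fun W a b w => by
      obtain ⟨l, hl⟩ := h (a ≫ z n) b (by simpa using w)
      exact ⟨pullback.lift l a hl, pullback.lift_snd _ _ _⟩
    exact g'.le_ker_comp (t n)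

/-- Over a noetherian base one member of a directed family decides. -/
theorem exists_index [AlgebraicGeometry.IsNoetherian S] [Nonempty ι] (r : ι → ι → Prop) (I : ι → S.IdealSheafData)
    (hI : ∀ m n, r m n → I m ≤ I n) (hdir : ∀ m n, ∃ k, r m k ∧ r n k) :
    ∃ n, (⨆ m, I m) ≤ I n := by
  classical
  obtain ⟨U, hU, hfin⟩ : ∃ U : Set S.affineOpens, (⨆ i : U, i.1.1) = ⊤ ∧ U.Finite := by
    obtain ⟨F, hF⟩ := isCompact_univ.elim_finite_subcover (fun i : S.affineOpens => (i.1 : Set S)) (fun i => i.1.2)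
      fun x _ => by
        obtain ⟨U, hU, hxU, -⟩ := exists_isAffineOpen_mem_and_subset (x := x) (U := ⊤) trivial
        exact Set.mem_iUnion.2 ⟨⟨U, hU⟩, hxU⟩
    refine ⟨F, top_le_iff.1 fun x _ => ?_, F.finite_toSet⟩
    obtain ⟨i, hi, hx⟩ := Set.mem_iUnion₂.1 (hF (Set.mem_univ x))
    exact TopologicalSpace.Opens.mem_iSup.2 ⟨⟨i, hi⟩, hx⟩
  have hone : ∀ V : S.affineOpens, ∃ n, ∀ m, (I m).ideal V ≤ (I n).ideal V := by
    intro V
    haveI : IsNoetherianRing Γ(S, V.1) := IsLocallyNoetherian.component_noetherian V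
    obtain ⟨_, ⟨n, rfl⟩, hn⟩ := set_has_maximal_iff_noetherian.2 ‹_› (Set.range fun n => (I n).ideal V)
      (Set.range_nonempty _)
    refine ⟨n, fun m => ?_⟩
    obtain ⟨k, hnk, hmk⟩ := hdir n m
    have h1 : (I n).ideal V = (I k).ideal V :=
      eq_of_le_of_not_lt (hI n k hnk V) (hn _ ⟨k, rfl⟩)
    rw [h1]
    exact hI m k hmk V
  have hall : ∀ F : Finset S.affineOpens, ∃ n, ∀ V ∈ F, ∀ m, (I m).ideal V ≤ (I n).ideal V := by
    intro F
    induction F using Finset.induction with
    | empty => exact ⟨Classical.arbitrary ι, by simp⟩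
    | insert V F _ ih =>
      obtain ⟨a, ha⟩ := hone V
      obtain ⟨b, hb⟩ := ih
      obtain ⟨k, hak, hbk⟩ := hdir a b
      refine ⟨k, fun W hW m => ?_⟩
      rcases Finset.mem_insert.1 hW with rfl | hW
      · exact (ha m).trans (hI a k hak W)
      · exact (hb W hW m).trans (hI b k hbk W)
  obtain ⟨n, hn⟩ := hall hfin.toFinset
  exact ⟨n, iSup_le fun m => Scheme.IdealSheafData.le_of_iSup_eq_top (fun i : U => i.1) hU
    fun i => hn _ (hfin.mem_toFinset.2 i.2) m⟩

end Groth.Agent.TorsionDense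

end
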